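import Cfsg.Agent.H63.UDec.Top

/-!
Overgroups of the monomial group of SU_4(2).
-/

set_option autoImplicit false

namespace Cfsg.Agent.H12.SUFour.Frames

open scoped MatrixGroups Matrix
open Finset Matrix Cfsg Cfsg.Agent.H95 Cfsg.Agent.Symplectic
open Cfsg.Agent.H63.UDec hiding top

variable {F : Type*} [Field F] [Fintype F] {q : ℕ} {σ : F ≃+* F} {M : Subgroup (GL (Fin 4) F)}

/-- Over the field with four elements the pairs lie in the monomial group. -/
theorem pairs_two (hf : Geo.IsUnitaryForm σ (hermForm 4 F q)) (hF : Fintype.card F = q ^ 2) (hq : q = 2)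
    (hσ : ∀ x, σ x = x ^ q) (hMon : HasMon (hermForm 4 F q) M) : ∀ a b : Fin 4, a ≠ b → Pair hf M a b := by
  classical
  obtain ⟨h2, nz, -⟩ := four hF hq hσ
  intro a b hab v hv hvv l hl
  refine hMon _ ⟨ut_mem_iso hf hvv hl, ut_mem_sl hf v l⟩ fun i => ?_
  have hrow : ∀ m, ((ut hf v l : Matrix (Fin 4) (Fin 4) F) *ᵥ Pi.single i 1) m =
      (Pi.single i 1 : Fin 4 → F) m + l * σ (v i) * v m := fun m => by
    rw [ut_mulVec hf hvv, ← u_conj hf v, herm_single_right' hσ]; simp
  by_cases hz : l * σ (v i) = 0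
  · refine single_col (c := 1) (funext fun m => ?_)
    rw [hrow, hz, zero_mul, add_zero, one_smul]
  obtain ⟨hl0, hvi⟩ : l ≠ 0 ∧ v i ≠ 0 := by
    rw [mul_eq_zero, not_or] at hz
    exact ⟨hz.1, by simpa using hz.2⟩
  have hl1 : l = 1 := by
    have e : l * σ l = 1 := nz l hl0
    rw [hl] at e
    have : (l + 1) * (l + 1) = 0 := by linear_combination (-1) * e + l * h2
    linear_combination mul_self_eq_zero.1 this - h2
  have hia : i = a ∨ i = b := by
    by_contra h
    rw [not_or] at h
    exact hvi (hv i h.1 h.2)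
  have key : ∀ m, ((ut hf v l : Matrix (Fin 4) (Fin 4) F) *ᵥ Pi.single i 1) m ≠ 0 →
      m ≠ i ∧ (m = a ∨ m = b) := by
    intro m hm
    rw [hrow] at hm
    refine ⟨?_, ?_⟩
    · rintro rfl
      apply hm
      rw [Pi.single_eq_same, hl1]
      linear_combination nz (v m) hvi + h2
    · by_contra h
      rw [not_or] at h
      apply hm
      rw [hv m h.1 h.2, mul_zero, add_zero]
      refine Pi.single_eq_of_ne ?_ 1
      rintro rfl
      rcases hia with e | e
      · exact h.1 e
      · exact h.2 e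
  refine card_le_one.2 fun m hm m' hm' => ?_
  obtain ⟨hmi, hma⟩ := key m (mem_sp.1 hm)
  obtain ⟨hmi', hma'⟩ := key m' (mem_sp.1 hm')
  rcases hia with rfl | rfl <;> rcases hma with rfl | rfl <;> rcases hma' with rfl | rfl <;>
    first
    | rfl
    | exact absurd rfl hmi
    | exact absurd rfl hmi'

/-- A non-monomial element moves a pair vector to a full one. -/
theorem exists_full (hf : Geo.IsUnitaryForm σ (hermForm 4 F q)) (hF : Fintype.card F = q ^ 2) (hq : q = 2)
    (hσ : ∀ x, σ x = x ^ q) (hM : M ≤ isoGrp (hermForm 4 F q))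
    (hall : ∀ a b : Fin 4, a ≠ b → Pair hf M a b) {g : GL (Fin 4) F} (hg : g ∈ M) (hg' : ¬ Mon g) :
    ∃ y : Fin 4 → F, (∀ i, y i ≠ 0) ∧ hermForm 4 F q y y = 0 ∧ UtIn hf M y := by
  classical
  obtain ⟨h2, nz, -⟩ := four hF hq hσ
  set col := fun c => (g : Matrix (Fin 4) (Fin 4) F) *ᵥ Pi.single c 1
  obtain ⟨a, ha⟩ : ∃ a, ¬ #(sp (col a)) ≤ 1 := not_forall.1 hg'
  have hnorm : hermForm 4 F q (col a) (col a) = 1 := by
    simp only [col]
    rw [mem_isoGrp.1 (hM hg), herm_single_right' hσ, Pi.single_eq_same]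
  have hterm : ∀ v : Fin 4 → F, hermForm 4 F q v v = (#(sp v) : F) := fun v => by
    rw [herm_sum hσ, ← sum_subset (subset_univ (sp v)) (fun i _ hi => by rw [notMem_sp.1 hi, zero_mul]),
      sum_congr rfl (fun i hi => nz _ (mem_sp.1 hi)), sum_const, nsmul_one]
  have hle : ∀ v : Fin 4 → F, #(sp v) ≤ 4 := fun v => (card_le_univ _).trans (Fintype.card_fin 4).le
  have ha3 : #(sp (col a)) = 3 := by
    rw [hterm] at hnorm
    have := hle (col a)
    interval_cases h : #(sp (col a))
    · push_cast at hnorm; exact absurd (by linear_combination -hnorm + h2) (one_ne_zero (α := F))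
    · rfl
    · push_cast at hnorm; exact absurd (by linear_combination -hnorm + 2 * h2) (one_ne_zero (α := F))
  obtain ⟨z, hz⟩ : ∃ z, z ∉ sp (col a) := by
    by_contra h
    push Not at h
    rw [eq_univ_of_forall h, card_univ, Fintype.card_fin] at ha3
    omega
  obtain ⟨b, hb⟩ : ∃ b, col b z ≠ 0 := by
    by_contra h
    push Not at h
    have e := congrFun (mulVec_inv_mulVec g (Pi.single z (1 : F))) z
    rw [pi_eq_sum_univ' (((g⁻¹ : GL (Fin 4) F) : Matrix (Fin 4) (Fin 4) F) *ᵥ Pi.single z 1),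
      mulVec_sum, Finset.sum_apply, sum_eq_zero fun i _ => by
        rw [mulVec_smul, Pi.smul_apply, show ((g : Matrix (Fin 4) (Fin 4) F) *ᵥ Pi.single i 1) z = 0 from h i,
          smul_zero], Pi.single_eq_same] at e
    exact zero_ne_one e
  have hab : a ≠ b := fun h => hz (mem_sp.2 (h ▸ hb))
  by_contra hcon
  push Not at hcon
  set v := fun θ : F => Pi.single a (1 : F) + θ • Pi.single b 1
  have hv : ∀ θ, θ * σ θ = 1 → (g : Matrix (Fin 4) (Fin 4) F) *ᵥ v θ = col a + θ • col b := fun θ _ => by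
    simp only [v, col, mulVec_add, mulVec_smul]
  -- each combination vanishes twice on the support
  have htwo : ∀ θ ∈ cs σ, 2 ≤ #((sp (col a)).filter fun i => (col a + θ • col b) i = 0) := by
    intro θ hθ
    rw [mem_cs] at hθ
    have hv' : ∀ i, i ≠ a → i ≠ b → v θ i = 0 := fun i h1 h2 => by simp [v, h1, h2]
    have hvv : hermForm 4 F q (v θ) (v θ) = 0 := by
      rw [norm_two hσ hab hv']; simp [v, hab, hab.symm, hθ]; linear_combination h2
    set y := col a + θ • col b
    have hyy : hermForm 4 F q y y = 0 := by simp only [y]; rw [← hv θ hθ, mem_isoGrp.1 (hM hg), hvv]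
    have hyU : UtIn hf M y := by
      simp only [y]; rw [← hv θ hθ]; exact (hall a b hab (v θ) hv' hvv).conj hf hvv hg (hM hg)
    obtain ⟨i0, hi0⟩ : ∃ i, y i = 0 := by
      by_contra h
      push Not at h
      exact hcon y h hyy hyU
    by_contra hlt
    have hsp : #(sp y) ≤ 3 := by
      have : sp y ⊆ univ.erase i0 := fun i hi => mem_erase.2 ⟨fun h => mem_sp.1 hi (h ▸ hi0), mem_univ _⟩
      exact (card_le_card this).trans (by rw [card_erase_of_mem (mem_univ _), card_univ, Fintype.card_fin])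
    have hzy : y z ≠ 0 := by
      simp only [y, Pi.add_apply, Pi.smul_apply, notMem_sp.1 hz, zero_add, smul_eq_mul]
      exact mul_ne_zero (ne_zero_of_norm hθ) hb
    have hsub : insert z ((sp (col a)).filter fun i => ¬ y i = 0) ⊆ sp y := fun i hi => by
      rcases mem_insert.1 hi with rfl | hi
      · exact mem_sp.2 hzy
      · exact mem_sp.2 (mem_filter.1 hi).2
    have := card_le_card hsub
    rw [card_insert_of_notMem (fun h => hz (mem_filter.1 h).1)] at this
    have := card_filter_add_card_filter_not (s := sp (col a)) (fun i => y i = 0)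
    have h3 : #(sp y) = 3 := by omega
    rw [hterm, h3] at hyy
    push_cast at hyy
    exact one_ne_zero (α := F) (by linear_combination hyy - h2)
  have hcnt : ∑ θ ∈ cs σ, #((sp (col a)).filter fun i => (col a + θ • col b) i = 0) ≤ 3 := by
    rw [← ha3]
    simp only [card_filter]
    rw [sum_comm, card_eq_sum_ones]
    refine sum_le_sum fun i hi => ?_
    rw [← card_filter]
    refine card_le_one.2 fun θ hθ θ' hθ' => ?_
    simp only [mem_filter, Pi.add_apply, Pi.smul_apply, smul_eq_mul] at hθ hθ'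
    have hbi : col b i ≠ 0 := fun h => mem_sp.1 hi (by simpa [h] using hθ.2)
    exact mul_right_cancel₀ hbi (by linear_combination hθ.2 - hθ'.2)
  have h6 := sum_le_sum htwo
  rw [sum_const, card_cs hF hσ, smul_eq_mul, hq] at h6
  omega

/-- Overgroups of the monomial group. -/
theorem utIn_all_two (hf : Geo.IsUnitaryForm σ (hermForm 4 F q)) (hF : Fintype.card F = q ^ 2) (hq : q = 2)
    (hσ : ∀ x, σ x = x ^ q) (hM : M ≤ isoGrp (hermForm 4 F q)) (hph : Phases σ M)
    (hMon : HasMon (hermForm 4 F q) M) {g : GL (Fin 4) F} (hg : g ∈ M) (hg' : ¬ Mon g) :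
    ∀ x, hermForm 4 F q x x = 0 → UtIn hf M x := by
  classical
  obtain ⟨h2, nz, -⟩ := four hF hq hσ
  have hall := pairs_two hf hF hq hσ hMon
  obtain ⟨y, hy, hyy, hyU⟩ := exists_full hf hF hq hσ hM hall hg hg'
  intro x hxx
  obtain ⟨k, hk⟩ := even_sp hF hq hσ hxx
  have hle : #(sp x) ≤ 4 := (card_le_univ _).trans (Fintype.card_fin 4).le
  rcases (show k = 0 ∨ k = 1 ∨ k = 2 by omega) with h | h | h
  · have : x = 0 := funext fun i => notMem_sp.1 fun hi => by
      have := card_pos.2 ⟨i, hi⟩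
      omega
    exact this ▸ utIn_zero
  · obtain ⟨u, w, huw, huw'⟩ := card_eq_two.1 (show #(sp x) = 2 by omega)
    exact hall u w huw x (fun i h1 h2 => notMem_sp.1 (by simp [huw', h1, h2])) hxx
  have hx : ∀ i, x i ≠ 0 := fun i => mem_sp.1 (by
    rw [eq_univ_of_card (sp x) (by rw [Fintype.card_fin]; omega)]; exact mem_univ i)
  set P := ∏ i, x i / y i
  have hP : P ≠ 0 := prod_ne_zero_iff.2 fun i _ => div_ne_zero (hx i) (hy i)
  have hP3 : P ^ 3 = 1 := by
    have := nz P hP
    rw [hσ, hq] at this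
    linear_combination this
  set θ : Fin 4 → F := fun i => x i / y i / P
  have hθ : Ph σ θ := by
    refine ⟨fun i => nz _ (div_ne_zero (div_ne_zero (hx i) (hy i)) hP), ?_⟩
    simp only [θ, prod_div_distrib, prod_const, card_univ, Fintype.card_fin]
    rw [← prod_div_distrib]
    show P / P ^ 4 = 1
    rw [div_eq_one_iff_eq (pow_ne_zero _ hP)]
    linear_combination -P * hP3
  obtain ⟨t, ht, htx⟩ := hph θ hθ
  have e : x = P • ((t : Matrix (Fin 4) (Fin 4) F) *ᵥ y) := funext fun i => by
    rw [Pi.smul_apply, htx, smul_eq_mul]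
    simp only [θ]
    field_simp [hP, hy i]
  rw [e]
  exact UtIn.smul hf (by rw [mem_isoGrp.1 (hM ht), hyy]) (hyU.conj hf hyy ht (hM ht)) P

end Cfsg.Agent.H12.SUFour.Frames
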