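import Cfsg.Agent.H12.SUFour.Frames.One
import Cfsg.Agent.H12.SUFour.Frames.Two
import Cfsg.Agent.H12.SUFour.Blocks

/-!
Maximality of the stabiliser of an orthogonal frame in SU_4(q).
-/

set_option autoImplicit false
open Cfsg

namespace Cfsg.Agent.H12.SUFour.Frames

open scoped MatrixGroups Matrix
open Finset Matrix Cfsg.Agent.H95 Cfsg.Agent.Symplectic
open Cfsg.Agent.H63.UDec hiding top exists_zero no_two gOne_of_unit gOne_of_swap gOne_odd gOne_even exists_utIn utIn_all_two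

/-- Overgroups of a frame stabiliser. -/
theorem top_lines {F : Type*} [Field F] [Fintype F] {q : ℕ} {σ : F ≃+* F}
    (hf : Geo.IsUnitaryForm σ (hermForm 4 F q)) (hF : Fintype.card F = q ^ 2) (hσ : ∀ x, σ x = x ^ q)
    (hq : q ≠ 3) {t : ℕ} (e : Fin t × Fin 1 ≃ Fin 4) {M : Subgroup (GL (Fin 4) F)}
    (hMG : M ≤ isoGrp (hermForm 4 F q) ⊓ Geo.specialLinear (Fin 4) F)
    (hS : HasBlocks (hermForm 4 F q) (fun i => (e.symm i).1) M) {g : GL (Fin 4) F} (hg : g ∈ M)
    (hgb : ∀ π, ¬ BlockMap (fun i => (e.symm i).1) g π) :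
    GU 4 F q ⊓ Geo.specialLinear (Fin 4) F ≤ M := by
  classical
  set blk : Fin 4 → Fin t := fun i => (e.symm i).1
  have hM : M ≤ isoGrp (hermForm 4 F q) := hMG.trans inf_le_left
  have hph := phases_of_blocks hf hσ hS
  have htk : t * 1 = 4 := by simpa using Fintype.card_congr e
  have hblk : ∀ B, #(univ.filter fun i => blk i = B) = 1 := fun B => by
    rw [← Fintype.card_subtype, Fintype.card_congr
      { toFun := fun i : {i // blk i = B} => (e.symm i.1).2
        invFun := fun j => ⟨e (B, j), by simp [blk]⟩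
        left_inv := fun i => Subtype.ext (by
          have h : (e.symm i.1).1 = B := i.2
          simp [← h])
        right_inv := fun j => by simp }, Fintype.card_fin]
  obtain ⟨hbij, hMon⟩ := hasMon_of_blocks htk rfl hblk hS
  have hg' : ¬ Mon g := fun hm => (blockMap_of_mon hbij hm).elim hgb
  suffices h : ∀ v, hermForm 4 F q v v = 0 → UtIn hf M v from su_le_of_ut hF le_rfl hσ hf h
  have hq2 := Unitary.two_le_q hF
  rcases (show q = 2 ∨ 4 ≤ q by omega) with hq' | hq'
  · exact utIn_all_two hf hF hq' hσ hM hph hMon hg hg'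
  obtain ⟨r, hr0, hrr, ⟨z, hrz⟩, hrU⟩ := exists_utIn hf hF hσ hq' hM hph hMon hg hg'
  obtain ⟨a, ha⟩ : ∃ a, r a ≠ 0 := by
    by_contra h; push Not at h; exact hr0 (funext h)
  obtain ⟨b, hba, hb⟩ : ∃ b, b ≠ a ∧ r b ≠ 0 := by
    by_contra h
    push Not at h
    rw [herm_sum hσ, sum_eq_single a (fun i _ hi => by rw [h i hi, zero_mul]) (by simp)] at hrr
    exact ha (by simpa [map_eq_zero] using hrr)
  have hP := down_exact (hf := hf) hF hσ (by omega) hM hph hrr hrU hba hb ha hrz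
  exact utIn_all hF (by omega) hσ hM
    (all_pairs hF hσ le_rfl e (fun i => rfl) hM hS (fun h => hba (hbij.1 h)) hP)

/-- Clause (3). -/
theorem frames_maximal {F : Type*} [Field F] [Fintype F] (q : ℕ) (hF : Fintype.card F = q ^ 2)
    (hq : q ≠ 3) {t : ℕ} (D : Fin t → Submodule F (Fin 4 → F))
    (hD : Cfsg.Geo.IsNondegenerateMDecomposition (Cfsg.hermForm 4 F q) 1 D) :
    Cfsg.Geo.IsMaximalIn (Cfsg.GU 4 F q ⊓ Cfsg.Geo.specialLinear (Fin 4) F)
      (Cfsg.Geo.decompositionStabilizer D ⊓ (Cfsg.GU 4 F q ⊓ Cfsg.Geo.specialLinear (Fin 4) F)) := by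
  obtain ⟨σ, hσ, hf⟩ := isUnitaryForm_hermForm (n := 4) hF
  exact dec_maximal_of_top hF le_rfl 1 D hD fun e M g hMG hS hg hgb =>
    top_lines hf hF hσ hq e hMG hS hg hgb

end Cfsg.Agent.H12.SUFour.Frames
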