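import Cfsg.Agent.H58.SUSmall.Zero
import Mathlib.NumberTheory.LegendreSymbol.QuadraticChar.Basic

/-!
Two cross terms with nonsquare product cancel at a square norm.
-/

set_option autoImplicit false

namespace Cfsg.Agent.H12.SUFour.Frames

open Finset Cfsg Cfsg.Agent.H63.UDec Cfsg.Agent.H58.SUSmall

/-- The quadratic character at a product of two linear factors. -/
theorem sum_char_two {K : Type*} [Field K] [Fintype K] [DecidableEq K] (h2 : ringChar K ≠ 2) {a b : K} (hab : a ≠ b) :
    ∑ y, quadraticChar K ((y - a) * (y - b)) = -1 := by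
  set c := b - a
  have hc : c ≠ 0 := sub_ne_zero.2 hab.symm
  calc ∑ y, quadraticChar K ((y - a) * (y - b))
      = ∑ w, quadraticChar K (w * (w - c)) :=
        Fintype.sum_equiv (Equiv.subRight a) _ _ fun y => by simp [c]
    _ = ∑ w ∈ univ.erase 0, quadraticChar K (w * (w - c)) := (sum_erase _ (by simp)).symm
    _ = ∑ w ∈ univ.erase 0, quadraticChar K (1 - c / w) := sum_congr rfl fun w hw => by
        have hw0 := (mem_erase.1 hw).1
        rw [show w * (w - c) = w ^ 2 * (1 - c / w) by field_simp, map_mul, quadraticChar_sq_one' hw0, one_mul]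
    _ = ∑ z ∈ univ.erase 1, quadraticChar K z := by
        refine sum_nbij' (fun w => 1 - c / w) (fun z => c / (1 - z)) ?_ ?_ ?_ ?_ fun w _ => rfl
        · intro w hw
          have hw0 := (mem_erase.1 hw).1
          simp [hc, hw0]
        · intro z hz
          have hz1 := (mem_erase.1 hz).1
          simp [hc, sub_ne_zero.2 hz1.symm]
        · intro w hw
          have hw0 := (mem_erase.1 hw).1
          simp [div_div_eq_mul_div, hc]
        · intro z hz
          have hz1 := sub_ne_zero.2 (mem_erase.1 hz).1.symm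
          field_simp
          ring
    _ = -1 := by
        have h := add_sum_erase univ (fun z => quadraticChar K z) (mem_univ (1 : K))
        simp only [quadraticChar_sum_zero h2, map_one] at h
        linarith

/-- A square with two prescribed non-square differences. -/
theorem exists_between {K : Type*} [Field K] [Fintype K] (h2 : ringChar K ≠ 2) {A B : K} (hA : A ≠ 0) (hB : B ≠ 0)
    (hAB : ¬ IsSquare (A * B)) :
    ∃ s : K, s ≠ 0 ∧ (IsSquare (s * s - A) → s * s = A) ∧ (IsSquare (s * s - B) → s * s = B) := by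
  classical
  have hne : A ≠ B := fun h => hAB (h ▸ IsSquare.mul_self A)
  set χ := quadraticChar K
  have hshift : ∀ a : K, ∑ y, χ (y - a) = 0 := fun a => by
    rw [← quadraticChar_sum_zero h2]
    exact Fintype.sum_equiv (Equiv.subRight a) _ _ fun y => rfl
  have e0 : ∑ y, χ y = 0 := quadraticChar_sum_zero h2
  have hA' : ∑ y, χ (y * (y - A)) = -1 := by simpa only [sub_zero] using sum_char_two h2 (a := 0) (b := A) hA.symm
  have hB' : ∑ y, χ (y * (y - B)) = -1 := by simpa only [sub_zero] using sum_char_two h2 (a := 0) (b := B) hB.symm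
  have hC : ∑ y, χ ((y - A) * (y - B)) = -1 := sum_char_two h2 hne
  have hexp : ∑ y, (1 + χ y) * (1 - χ (y - A)) * (1 - χ (y - B)) =
      ((Fintype.card K : ℤ) + 1) + ∑ y, χ (y * ((y - A) * (y - B))) := by
    have e : ∀ y, (1 + χ y) * (1 - χ (y - A)) * (1 - χ (y - B)) = 1 + χ y - χ (y - A) - χ (y - B)
        - χ (y * (y - A)) - χ (y * (y - B)) + χ ((y - A) * (y - B)) + χ (y * ((y - A) * (y - B))) :=
      fun y => by simp only [map_mul]; ring
    simp only [sum_congr rfl fun y _ => e y, sum_add_distrib, sum_sub_distrib, e0, hshift, hA', hB', hC,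
      sum_const, card_univ, nsmul_eq_mul, mul_one]
    ring
  have hlow : -(Fintype.card K : ℤ) ≤ ∑ y, χ (y * ((y - A) * (y - B))) := by
    refine le_trans (le_of_eq ?_) (sum_le_sum (f := fun _ => (-1 : ℤ)) fun y _ => ?_)
    · simp
    · rcases eq_or_ne (y * ((y - A) * (y - B))) 0 with h | h
      · simp [χ, h]
      · rcases quadraticChar_dichotomy h with h' | h' <;> simp [χ, h']
  obtain ⟨y, -, hy⟩ := exists_ne_zero_of_sum_ne_zero
    (show ∑ y, (1 + χ y) * (1 - χ (y - A)) * (1 - χ (y - B)) ≠ 0 by omega)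
  have hy0 : y ≠ 0 := by
    rintro rfl
    apply hy
    have h := quadraticChar_neg_one_iff_not_isSquare.2 hAB
    rw [show A * B = -A * -B by ring, map_mul] at h
    rcases quadraticChar_dichotomy (neg_ne_zero.2 hA) with h1 | h1
    · simp [χ, h1]
    · rcases quadraticChar_dichotomy (neg_ne_zero.2 hB) with h2' | h2'
      · simp [χ, h2']
      · rw [h1, h2'] at h; norm_num at h
  have hsq : IsSquare y := by
    by_contra h
    exact hy (by simp [χ, quadraticChar_neg_one_iff_not_isSquare.2 h])
  obtain ⟨s, rfl⟩ := hsq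
  refine ⟨s, fun h => hy0 (by rw [h, zero_mul]), fun h => ?_, fun h => ?_⟩
  · by_contra hA0
    exact hy (by simp [χ, (quadraticChar_one_iff_isSquare (sub_ne_zero.2 hA0)).2 h])
  · by_contra hB0
    exact hy (by simp [χ, (quadraticChar_one_iff_isSquare (sub_ne_zero.2 hB0)).2 h])

variable {F : Type*} [Field F] [Fintype F] {q : ℕ} {σ : F ≃+* F}

/-- the fixed field -/
def fixF (σ : F ≃+* F) : Subfield F where
  carrier := {x | σ x = x}
  mul_mem' := fun {x y} hx hy => by
    show σ (x * y) = x * y
    rw [map_mul, show σ x = x from hx, show σ y = y from hy]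
  one_mem' := map_one σ
  add_mem' := fun {x y} hx hy => by
    show σ (x + y) = x + y
    rw [map_add, show σ x = x from hx, show σ y = y from hy]
  zero_mem' := map_zero σ
  neg_mem' := fun {x} hx => by
    show σ (-x) = -x
    rw [map_neg, show σ x = x from hx]
  inv_mem' := fun x hx => by
    show σ x⁻¹ = x⁻¹
    rw [map_inv₀, show σ x = x from hx]

variable (h2 : (2 : F) ≠ 0) (hinv : ∀ x, σ (σ x) = x)
include h2 hinv

/-- A nonsquare fixed element is the square of a skew one. -/
theorem exists_root_fixed (hskew : ∃ s : F, s ≠ 0 ∧ σ s = -s) {c : F} (hc : σ c = c) :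
    ∃ δ : F, δ * δ = c ∧ (σ δ = δ ∨ σ δ = -δ) := by
  classical
  let : Fintype (fixF σ) := Fintype.ofFinite _
  by_cases h : IsSquare (⟨c, hc⟩ : fixF σ)
  · obtain ⟨⟨r, hr⟩, hr'⟩ := h
    exact ⟨r, (congrArg Subtype.val hr').symm, Or.inl hr⟩
  obtain ⟨s, hs0, hs⟩ := hskew
  have hss : σ (s * s) = s * s := by rw [map_mul, hs]; ring
  have hns : ¬ IsSquare (⟨s * s, hss⟩ : fixF σ) := by
    rintro ⟨⟨r, hr⟩, hr'⟩
    have e : (s - r) * (s + r) = 0 := by
      have e' := congrArg Subtype.val hr'
      simp only [Subfield.coe_mul] at e'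
      linear_combination e'
    have hsf : σ s = s := by
      rcases mul_eq_zero.1 e with e | e
      · rw [sub_eq_zero.1 e]; exact hr
      · rw [eq_neg_of_add_eq_zero_left e, map_neg]; exact congrArg Neg.neg hr
    exact hs0 ((mul_eq_zero.1 (show (2 : F) * s = 0 by
      rw [hsf] at hs; linear_combination hs)).resolve_left h2)
  obtain ⟨⟨r, hr⟩, hr'⟩ := isSquare_div_of_not h hns
  refine ⟨r * s, ?_, Or.inr (by rw [map_mul, hs, show σ r = r from hr]; ring)⟩
  have e : c / (s * s) = r * r := congrArg Subtype.val hr'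
  field_simp at e
  linear_combination -e

/-- An element whose norm is a square of the fixed field is a square. -/
theorem isSquare_of_norm (hskew : ∃ s : F, s ≠ 0 ∧ σ s = -s) {x r : F} (hr : σ r = r) (hx : x * σ x = r * r) :
    IsSquare x := by
  rcases eq_or_ne r 0 with rfl | hr0
  · rw [mul_zero, mul_eq_zero, map_eq_zero, or_self] at hx
    exact hx ▸ IsSquare.zero
  have sq : ∀ c : F, σ c = c → IsSquare c := fun c hc => by
    obtain ⟨δ, hδ, -⟩ := exists_root_fixed h2 hinv hskew hc
    exact ⟨δ, hδ.symm⟩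
  set y := x / r
  have hy : y * σ y = 1 := by
    simp only [y, map_div₀, hr]; field_simp; linear_combination hx
  have hxy : x = r * y := by simp only [y]; field_simp
  rw [hxy]
  refine (sq r hr).mul ?_
  rcases eq_or_ne (1 + y) 0 with h | h
  · rw [eq_neg_of_add_eq_zero_right h]
    exact sq _ (by rw [map_neg, map_one])
  have hσ1 : σ (1 + y) ≠ 0 := (_root_.map_ne_zero σ).2 h
  have : y = (1 + y) * (1 + y) / ((1 + y) * σ (1 + y)) := by
    rw [eq_div_iff (mul_ne_zero h hσ1), map_add, map_one]
    linear_combination (1 + y) * hy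
  rw [this]
  exact (IsSquare.mul_self _).div (sq _ (by rw [map_mul, hinv, mul_comm]))

/-- Two cross terms with nonsquare product cancel with phases of product minus one. -/
theorem exists_cancel_nonsquare (hskew : ∃ s : F, s ≠ 0 ∧ σ s = -s) {u v : F} (hu : u ≠ 0) (hv : v ≠ 0)
    (huv : ¬ IsSquare (u * v)) :
    ∃ p r p' r' : F, p * σ p = 1 ∧ r * σ r = 1 ∧ p' * σ p' = 1 ∧ r' * σ r' = 1 ∧
      u * (p + r) + v * (p' + r') = 0 ∧ p * r * (u / σ u) = 1 ∧ p' * r' * (v / σ v) = 1 ∧
      p + r ≠ 0 ∧ p' + r' ≠ 0 ∧ (p ≠ r ∨ p' ≠ r') := by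
  classical
  let : Fintype (fixF σ) := Fintype.ofFinite _
  have fixn : ∀ x, σ (x * σ x) = x * σ x := fun x => by rw [map_mul, hinv, mul_comm]
  have hfour : σ (4 : F) = 4 := map_ofNat σ 4
  have h4 : (4 : F) ≠ 0 := by rw [show (4 : F) = 2 * 2 by norm_num]; exact mul_ne_zero h2 h2
  have hσu : σ u ≠ 0 := (_root_.map_ne_zero σ).2 hu
  have hσv : σ v ≠ 0 := (_root_.map_ne_zero σ).2 hv
  have hK : ringChar (fixF σ) ≠ 2 := fun h => h2 (by
    have := ringChar.of_eq h
    exact congrArg Subtype.val (CharTwo.two_eq_zero : (2 : fixF σ) = 0))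
  set A : fixF σ := ⟨4 * (u * σ u), show σ _ = _ by rw [map_mul, hfour, fixn]⟩ with hAd
  set B : fixF σ := ⟨4 * (v * σ v), show σ _ = _ by rw [map_mul, hfour, fixn]⟩ with hBd
  have hAB : ¬ IsSquare (A * B) := by
    rintro ⟨⟨r, hr⟩, hr'⟩
    have e : 4 * (u * σ u) * (4 * (v * σ v)) = r * r := congrArg Subtype.val hr'
    refine huv (isSquare_of_norm h2 hinv hskew (r := r / 4) (by rw [map_div₀, hfour, show σ r = r from hr]) ?_)
    rw [map_mul]
    field_simp
    linear_combination e
  obtain ⟨⟨s, hs⟩, hs0, hsA, hsB⟩ := exists_between hK (A := A) (B := B)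
    (fun h => mul_ne_zero h4 (mul_ne_zero hu hσu) (congrArg Subtype.val h))
    (fun h => mul_ne_zero h4 (mul_ne_zero hv hσv) (congrArg Subtype.val h)) hAB
  have hs' : s ≠ 0 := fun h => hs0 (Subtype.ext h)
  have hsσ : σ s = s := hs
  have key : ∀ (u : F), u ≠ 0 → ∀ A : fixF σ, (A : F) = 4 * (u * σ u) →
      (IsSquare ((⟨s, hs⟩ : fixF σ) * ⟨s, hs⟩ - A) → (⟨s, hs⟩ : fixF σ) * ⟨s, hs⟩ = A) →
      ∃ p r : F, p * σ p = 1 ∧ r * σ r = 1 ∧ u * (p + r) = s ∧ p * r * (u / σ u) = 1 ∧
        (p = r → s * s = 4 * (u * σ u)) := by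
    intro u hu A hA hA'
    have hσu : σ u ≠ 0 := (_root_.map_ne_zero σ).2 hu
    set N := u * σ u with hN
    have hN0 : N ≠ 0 := mul_ne_zero hu hσu
    set t := s * s / N
    have ht : σ t = t := by simp only [t, map_div₀, map_mul, hsσ, hN, hinv]; rw [mul_comm (σ u)]
    obtain ⟨δ, hδ, hδσ⟩ := exists_root_fixed h2 hinv hskew (c := t * (t - 4))
      (by rw [map_mul, map_sub, ht, hfour])
    have hδ' : σ δ = -δ := by
      rcases hδσ with hfix | h
      swap
      · exact h
      have hsq : IsSquare ((⟨s, hs⟩ : fixF σ) * ⟨s, hs⟩ - A) :=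
        ⟨⟨δ * N / s, show σ _ = _ by rw [map_div₀, map_mul, hfix, hsσ, fixn]⟩, Subtype.ext (by
          show s * s - (A : F) = δ * N / s * (δ * N / s)
          rw [hA, show δ * N / s * (δ * N / s) = δ * δ * (N * N / (s * s)) by ring, hδ]
          simp only [t]
          field_simp)⟩
      have e : s * s = 4 * N := (congrArg Subtype.val (hA' hsq)).trans hA
      have : δ * δ = 0 := by rw [hδ]; simp only [t, e]; field_simp; ring
      rw [mul_self_eq_zero.1 this, map_zero, neg_zero]
    set l := (t - 2 + δ) / 2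
    have hσl : σ l = (t - 2 - δ) / 2 := by
      simp only [l, map_div₀, map_add, map_sub, map_ofNat, ht, hδ']
      ring
    have hl : l * σ l = 1 := by
      rw [hσl]; simp only [l]; field_simp; linear_combination -hδ
    have hlt : (1 + l) * (1 + σ l) = t := by
      rw [hσl]; simp only [l]; field_simp; linear_combination -hδ
    have ht0 : t ≠ 0 := div_ne_zero (mul_ne_zero hs' hs') hN0
    have hl1 : 1 + l ≠ 0 := fun h => ht0 (by rw [← hlt, h, zero_mul])
    have hσl1 : 1 + σ l ≠ 0 := fun h => ht0 (by rw [← hlt, h, mul_zero])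
    set p := s / (u * (1 + l))
    have hp : p * σ p = 1 := by
      simp only [p, map_div₀, map_mul, map_add, map_one, hsσ]
      have e : t * N = s * s := div_mul_cancel₀ _ hN0
      rw [← hlt, hN] at e
      field_simp
      linear_combination -e
    refine ⟨p, l * p, hp, by rw [map_mul]; linear_combination (l * σ l) * hp + hl, ?_, ?_, fun he => ?_⟩
    · simp only [p]; field_simp
    · have e : (1 + l) * (1 + l) = l * t := by rw [← hlt]; linear_combination -(1 + l) * hl
      have e2 : t * N = s * s := div_mul_cancel₀ _ hN0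
      rw [hN] at e2
      simp only [p]
      field_simp
      linear_combination (-u * σ u) * e - l * e2
    · have hp0 : p ≠ 0 := ne_zero_of_norm hp
      have hl1' : l = 1 := (mul_eq_right₀ hp0).1 he.symm
      rw [hl1', map_one] at hlt
      have e2 : t * N = s * s := div_mul_cancel₀ _ hN0
      linear_combination -e2 - N * hlt
  obtain ⟨p, r, hp, hr, he, hprod, heq⟩ := key u hu A rfl hsA
  obtain ⟨p', r', hp', hr', he', hprod', heq'⟩ := key v hv B rfl hsB
  refine ⟨p, r, -p', -r', hp, hr, by rw [map_neg]; linear_combination hp', by rw [map_neg]; linear_combination hr',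
    by linear_combination he - he', hprod, by linear_combination hprod', fun h => ?_, fun h => ?_, ?_⟩
  · rw [h, mul_zero] at he; exact hs' he.symm
  · apply hs'; linear_combination v * (-h) - he'
  · by_contra h
    push Not at h
    have e : A = B := Subtype.ext ((heq h.1).symm.trans (heq' (neg_injective h.2)))
    exact hAB (e ▸ IsSquare.mul_self A)

end Cfsg.Agent.H12.SUFour.Frames
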