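import Cfsg.Agent.H12.SUFour.Frames.Zero
import Cfsg.Agent.H58.SUSmall.Refl

/-!
In dimension four a non-monomial element gives one fixing an axis.
-/

set_option autoImplicit false

namespace Cfsg.Agent.H12.SUFour.Frames

open scoped MatrixGroups Matrix
open Finset Matrix Cfsg Cfsg.Agent.H95 Cfsg.Agent.Symplectic
open Cfsg.Agent.H63.UDec hiding exists_zero no_two gOne_of_unit gOne_of_swap gOne_odd gOne_even exists_utIn

variable {F : Type*} [Field F] [Fintype F] {q : ℕ} {σ : F ≃+* F} {M : Subgroup (GL (Fin 4) F)}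

/-- All columns have at most one zero. -/
theorem no_two (hf : Geo.IsUnitaryForm σ (hermForm 4 F q)) (hF : Fintype.card F = q ^ 2) (hσ : ∀ x, σ x = x ^ q)
    (hq : 4 ≤ q) (hM : M ≤ isoGrp (hermForm 4 F q)) (hph : Phases σ M) (hno : ¬ GOne M) {y : GL (Fin 4) F}
    (hy : y ∈ M) (hy' : ¬ Mon y) (j : Fin 4) :
    3 ≤ #(sp ((y : Matrix (Fin 4) (Fin 4) F) *ᵥ Pi.single j 1)) := by
  classical
  by_contra hj
  set Y := fun z m => ((y : Matrix (Fin 4) (Fin 4) F) *ᵥ Pi.single m 1) z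
  obtain ⟨z1, z2, hz1, hz2, hz⟩ := one_lt_card_iff.1
    (show 1 < #(sp ((y : Matrix (Fin 4) (Fin 4) F) *ᵥ Pi.single j 1))ᶜ by
      rw [card_compl, Fintype.card_fin]; omega)
  rw [Finset.mem_compl, notMem_sp] at hz1 hz2
  obtain ⟨S, hS, a1, a2⟩ := two_zero hf hF hσ (by omega) (by omega) hM hph hno hy hz hz1 hz2
  have hinv : ¬ Mon y⁻¹ := fun h => hy' (mon_inv hf hσ (hM hy) h)
  set c := fun z => ((y⁻¹ : GL (Fin 4) F) : Matrix (Fin 4) (Fin 4) F) *ᵥ Pi.single z 1
  have hcard : ∀ z, 2 ≤ #(sp (c z)) := fun z => by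
    by_contra h
    exact hno ⟨y⁻¹, M.inv_mem hy, hinv, z, by simp only [c] at h; omega⟩
  obtain ⟨s, s', hss, rfl⟩ := card_eq_two.1 (le_antisymm hS ((hcard z1).trans (card_le_card a1)))
  have e1 := eq_of_subset_of_card_le a1 (hS.trans (hcard z1))
  have e2 := eq_of_subset_of_card_le a2 (hS.trans (hcard z2))
  have hin : ∀ z m, c z m ≠ 0 ↔ m ∈ sp (c z) := fun z m => mem_sp.symm
  have hc : ∀ z m, c z m = σ (Y z m) := fun z m => entry_inv hf hσ (hM hy) m z
  have hv : ∀ z, (z = z1 ∨ z = z2) → ∀ i, i ≠ s → i ≠ s' → c z i = 0 := by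
    rintro z (rfl | rfl) i h1 h2 <;> refine notMem_sp.1 fun h => ?_
    · simp only [c, e1] at h; simp [h1, h2] at h
    · simp only [c, e2] at h; simp [h1, h2] at h
  have hne : ∀ z, (z = z1 ∨ z = z2) → c z s ≠ 0 ∧ c z s' ≠ 0 := by
    rintro z (rfl | rfl) <;> simp only [hin, c, e1, e2] <;> simp
  have horth : ∀ z w, hermForm 4 F q (c z) (c w) = if z = w then 1 else 0 := fun z w => by
    simp only [c, mem_isoGrp.1 (Subgroup.inv_mem _ (hM hy)), herm_single_right' hσ, Pi.single_apply]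
    simp [eq_comm]
  set a := Y z1 s
  set a' := Y z1 s'
  set b := Y z2 s
  set b' := Y z2 s'
  have ra : a * σ a + a' * σ a' = 1 := by
    have h := horth z1 z1
    rw [norm_two hσ hss (hv z1 (Or.inl rfl)), if_pos rfl, hc, hc, u_inv hf, u_inv hf] at h
    linear_combination h
  have rb : b * σ b + b' * σ b' = 1 := by
    have h := horth z2 z2
    rw [norm_two hσ hss (hv z2 (Or.inr rfl)), if_pos rfl, hc, hc, u_inv hf, u_inv hf] at h
    linear_combination h
  have rab : σ a * b + σ a' * b' = 0 := by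
    have h := horth z1 z2
    rw [norm_two hσ hss (hv z1 (Or.inl rfl)), if_neg hz, hc, hc, hc, hc, u_inv hf, u_inv hf] at h
    linear_combination h
  have rba : σ b * a + σ b' * a' = 0 := by
    have := congrArg σ rab
    simp only [map_add, map_mul, u_inv hf, map_zero] at this
    linear_combination this
  have hA : a ≠ 0 ∧ a' ≠ 0 := by
    have h := hne z1 (Or.inl rfl)
    simpa only [hc, ne_eq, map_eq_zero] using h
  have hB : b ≠ 0 ∧ b' ≠ 0 := by
    have h := hne z2 (Or.inr rfl)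
    simpa only [hc, ne_eq, map_eq_zero] using h
  have hσA : σ a ≠ 0 ∧ σ a' ≠ 0 := ⟨(_root_.map_ne_zero σ).2 hA.1, (_root_.map_ne_zero σ).2 hA.2⟩
  have hsum : a * σ a + b * σ b = 1 := by
    linear_combination (σ b' * b') * ra - (a * σ a - 1) * rb - (σ b' * a') * 0 + (σ b * a) * rab
      - (σ a' * b') * rba
  have hab : a * σ a' + b * σ b' = 0 := by
    refine (mul_eq_zero.1 (show (a * σ a' + b * σ b') * a' = 0 by
      linear_combination a * ra + b * rba - a * hsum)).resolve_right hA.2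
  -- the phase
  obtain ⟨l, hl, hl2, hl3⟩ : ∃ l : F, l * σ l = 1 ∧ l ^ 2 ≠ 1 ∧ l ^ 2 * (a * σ a) + b * σ b ≠ 0 := by
    by_contra hcon
    push Not at hcon
    have hA0 : a * σ a ≠ 0 := mul_ne_zero hA.1 hσA.1
    have hsub : cs σ ⊆ (Polynomial.nthRoots 2 (1 : F)).toFinset ∪
        (Polynomial.nthRoots 2 (-(b * σ b) / (a * σ a))).toFinset := fun l hl => by
      rw [Finset.mem_union, Multiset.mem_toFinset, Multiset.mem_toFinset, Polynomial.mem_nthRoots (by norm_num),
        Polynomial.mem_nthRoots (by norm_num)]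
      by_cases h : l ^ 2 = 1
      · exact Or.inl h
      · exact Or.inr ((eq_div_iff hA0).2 (by linear_combination hcon l (mem_cs.1 hl) h))
    have := (card_le_card hsub).trans (card_union_le _ _)
    have := (Multiset.toFinset_card_le (Polynomial.nthRoots 2 (1 : F))).trans (Polynomial.card_nthRoots 2 1)
    have := (Multiset.toFinset_card_le (Polynomial.nthRoots 2 (-(b * σ b) / (a * σ a)))).trans
      (Polynomial.card_nthRoots 2 (-(b * σ b) / (a * σ a)))
    rw [card_cs hF hσ] at *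
    omega
  have hl0 := ne_zero_of_norm hl
  set θ : Fin 4 → F := fun i => if i = z1 then l else if i = z2 then l⁻¹ else 1
  have θ1 : θ z1 = l := by simp [θ]
  have θ2 : θ z2 = l⁻¹ := by simp [θ, hz.symm]
  have θo : ∀ i, i ≠ z1 → i ≠ z2 → θ i = 1 := fun i a b => by simp [θ, a, b]
  have hθ : Ph σ θ := by
    refine ⟨fun i => ?_, ?_⟩
    · simp only [θ]; split_ifs
      · exact hl
      · rw [map_inv₀, ← mul_inv, hl, inv_one]
      · simp
    · rw [← prod_subset (subset_univ ({z1, z2} : Finset (Fin 4))) (fun i _ hi => by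
        simp only [mem_insert, Finset.mem_singleton, not_or] at hi
        exact θo i hi.1 hi.2), prod_pair hz, θ1, θ2, mul_inv_cancel₀ hl0]
  obtain ⟨g, hg, hgx⟩ := hph θ hθ
  have hval : ∀ v, ((y⁻¹ * g * y : GL (Fin 4) F) : Matrix (Fin 4) (Fin 4) F) *ᵥ v =
      v + ((l - 1) * ((y : Matrix (Fin 4) (Fin 4) F) *ᵥ v) z1) • c z1 +
        ((l⁻¹ - 1) * ((y : Matrix (Fin 4) (Fin 4) F) *ᵥ v) z2) • c z2 := by
    intro v
    have e : (g : Matrix (Fin 4) (Fin 4) F) *ᵥ ((y : Matrix (Fin 4) (Fin 4) F) *ᵥ v) =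
        (y : Matrix (Fin 4) (Fin 4) F) *ᵥ v +
          ((l - 1) * ((y : Matrix (Fin 4) (Fin 4) F) *ᵥ v) z1) • Pi.single z1 1 +
          ((l⁻¹ - 1) * ((y : Matrix (Fin 4) (Fin 4) F) *ᵥ v) z2) • Pi.single z2 1 := by
      funext m
      rw [hgx]
      simp only [Pi.add_apply, Pi.smul_apply, smul_eq_mul, Pi.single_apply]
      rcases eq_or_ne m z1 with rfl | h1
      · simp [θ1, hz]; ring
      rcases eq_or_ne m z2 with rfl | h2
      · simp [θ2, h1]; ring
      simp [θo m h1 h2, h1, h2]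
    rw [mul_mulVec, mul_mulVec, e, mulVec_add, mulVec_add, mulVec_smul, mulVec_smul, inv_mulVec_mulVec]
  refine hno ⟨y⁻¹ * g * y, M.mul_mem (M.mul_mem (M.inv_mem hy) hg) hy, not_mon_of (j := s) ?_, j, single_col (c := 1) ?_⟩
  · refine le_trans (card_pair hss).ge (card_le_card fun m hm => ?_)
    rw [mem_sp, hval]
    simp only [Pi.add_apply, Pi.smul_apply, smul_eq_mul, hc]
    rcases Finset.mem_insert.1 hm with rfl | hm
    · rw [Pi.single_eq_same]
      intro h
      change 1 + (l - 1) * a * σ a + (l⁻¹ - 1) * b * σ b = 0 at h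
      field_simp at h
      exact hl3 (by linear_combination h + l * hsum)
    · rw [Finset.mem_singleton.1 hm, Pi.single_eq_of_ne hss.symm]
      intro h
      change 0 + (l - 1) * a * σ a' + (l⁻¹ - 1) * b * σ b' = 0 at h
      field_simp at h
      have : (l ^ 2 - 1) * (a * σ a') = 0 := by linear_combination h - (1 - l) * hab
      exact (mul_ne_zero (sub_ne_zero.2 hl2) (mul_ne_zero hA.1 hσA.2)) this
  · rw [hval, hz1, hz2]
    simp

/-- A non-monomial element gives one fixing an axis. -/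
theorem exists_gOne (hf : Geo.IsUnitaryForm σ (hermForm 4 F q)) (hF : Fintype.card F = q ^ 2)
    (hσ : ∀ x, σ x = x ^ q) (hq : 4 ≤ q) (hM : M ≤ isoGrp (hermForm 4 F q)) (hph : Phases σ M)
    (hS : HasMon (hermForm 4 F q) M) {g : GL (Fin 4) F} (hg : g ∈ M) (hg' : ¬ Mon g) : GOne M := by
  classical
  by_contra hno
  have hfull := fun y (hy : y ∈ M) (hy' : ¬ Mon y) i => no_two hf hF hσ hq hM hph hno hy hy' i
  obtain ⟨y, hy, hy', j, z, hjz⟩ := exists_zero hf hF hσ hq hM hS hg hg'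
  obtain ⟨μ, hμ, hμn⟩ : ∃ μ : F, μ * σ μ = 1 ∧ μ ^ 4 ≠ 1 := by
    by_contra h
    push Not at h
    have : #(cs σ) ≤ 4 := (card_le_card (t := (Polynomial.nthRoots 4 (1 : F)).toFinset) fun l hl => by
      rw [Multiset.mem_toFinset, Polynomial.mem_nthRoots (by norm_num)]
      exact h l (mem_cs.1 hl)).trans ((Multiset.toFinset_card_le _).trans (Polynomial.card_nthRoots 4 1))
    rw [card_cs hF hσ] at this
    omega
  refine hno (H58.SUSmall.gOne_of_unit hf hσ le_rfl hM hph hy (fun i => ?_) hjz hμ hμn)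
  have := hfull y⁻¹ (M.inv_mem hy) (fun h => hy' (mon_inv hf hσ (hM hy) h)) i
  omega

/-- A non-monomial element gives a transvection with a zero coordinate. -/
theorem exists_utIn (hf : Geo.IsUnitaryForm σ (hermForm 4 F q)) (hF : Fintype.card F = q ^ 2)
    (hσ : ∀ x, σ x = x ^ q) (hq : 4 ≤ q) (hM : M ≤ isoGrp (hermForm 4 F q)) (hph : Phases σ M)
    (hS : HasMon (hermForm 4 F q) M) {g : GL (Fin 4) F} (hg : g ∈ M) (hg' : ¬ Mon g) :
    ∃ r : Fin 4 → F, r ≠ 0 ∧ hermForm 4 F q r r = 0 ∧ (∃ z, r z = 0) ∧ UtIn hf M r := by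
  have h1 := exists_gOne hf hF hσ hq hM hph hS hg hg'
  obtain ⟨u, z, huz, huu, hu2, hR⟩ := refl_of_gOne hσ hM hph hf h1
  obtain ⟨u, a, b, c, z, hab, hac, hbc, ha, hb, hc, huz, huu, hR⟩ :=
    refl_three hF (by omega) hσ le_rfl hS hf huz huu hu2 hR
  obtain ⟨r, hr0, hrr, hrz, hrU⟩ :=
    H58.SUSmall.utIn_of_refl_zero (hf := hf) hF (by omega) hσ hph hM hab hac hbc ha hb hc huz huu hR
  exact ⟨r, hr0, hrr, ⟨z, hrz⟩, hrU⟩

end Cfsg.Agent.H12.SUFour.Frames
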