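import Cfsg.Agent.H12.SUFour.Frames.Norms

/-!
In dimension four an overgroup of the monomial group has a non-monomial element with a zero entry.
-/

set_option autoImplicit false

namespace Cfsg.Agent.H12.SUFour.Frames

open scoped MatrixGroups Matrix
open Finset Matrix Cfsg Cfsg.Agent.H95 Cfsg.Agent.Symplectic
open Cfsg.Agent.H63.UDec hiding exists_zero
open Cfsg.Agent.H58.SUSmall hiding exists_zero

variable {F : Type*} [Field F] {q : ℕ} {σ : F ≃+* F}

/-- A diagonal element with a repeated value and a monomial conjugate by a full element has scalar square. -/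
theorem sq_scalar_of_mon {g D : GL (Fin 4) F} {c : Fin 4 → F}
    (hg : ∀ a i, ((g : Matrix (Fin 4) (Fin 4) F) *ᵥ Pi.single a 1) i ≠ 0)
    (hgi : ∀ a i, (((g⁻¹ : GL (Fin 4) F) : Matrix (Fin 4) (Fin 4) F) *ᵥ Pi.single i 1) a ≠ 0)
    (hD : Mon D)
    (hdiag : ∀ a, (D : Matrix (Fin 4) (Fin 4) F) *ᵥ ((g : Matrix (Fin 4) (Fin 4) F) *ᵥ Pi.single a 1) =
      c a • ((g : Matrix (Fin 4) (Fin 4) F) *ᵥ Pi.single a 1))
    {a b : Fin 4} (hab : a ≠ b) (hc : c a = c b) : ∀ i j, c i ^ 2 = c j ^ 2 := by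
  classical
  -- an axis fixed by a diagonalised element makes it scalar
  have hfix : ∀ (E : GL (Fin 4) F) (e : Fin 4 → F),
      (∀ a, (E : Matrix (Fin 4) (Fin 4) F) *ᵥ ((g : Matrix (Fin 4) (Fin 4) F) *ᵥ Pi.single a 1) =
        e a • ((g : Matrix (Fin 4) (Fin 4) F) *ᵥ Pi.single a 1)) →
      ∀ i d, (E : Matrix (Fin 4) (Fin 4) F) *ᵥ Pi.single i 1 = d • Pi.single i 1 → ∀ a, e a = d := by
    intro E e he i d hd a
    set x := ((g⁻¹ : GL (Fin 4) F) : Matrix (Fin 4) (Fin 4) F) *ᵥ Pi.single i 1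
    have hE : ∀ v, (E : Matrix (Fin 4) (Fin 4) F) *ᵥ ((g : Matrix (Fin 4) (Fin 4) F) *ᵥ v) =
        (g : Matrix (Fin 4) (Fin 4) F) *ᵥ fun m => e m * v m := by
      intro v
      conv_lhs => rw [pi_eq_sum_univ' v]
      rw [mulVec_sum, mulVec_sum]
      conv_rhs => rw [pi_eq_sum_univ' (fun m => e m * v m)]
      rw [mulVec_sum]
      refine sum_congr rfl fun m _ => ?_
      rw [mulVec_smul, mulVec_smul, he, mulVec_smul, smul_smul, mul_comm]
    have h1 := hE x
    rw [mulVec_inv_mulVec, hd] at h1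
    have h2 := congrArg (fun v => ((g⁻¹ : GL (Fin 4) F) : Matrix (Fin 4) (Fin 4) F) *ᵥ v) h1
    simp only [inv_mulVec_mulVec, mulVec_smul] at h2
    exact (mul_right_cancel₀ (hgi a i) (congrFun h2 a)).symm
  -- the shape
  have hshape : ∀ i, ∃ k, (D : Matrix (Fin 4) (Fin 4) F) *ᵥ Pi.single i 1 =
      ((D : Matrix (Fin 4) (Fin 4) F) *ᵥ Pi.single i 1) k • Pi.single k 1 := by
    intro i
    obtain ⟨k, hk⟩ : ∃ k, sp ((D : Matrix (Fin 4) (Fin 4) F) *ᵥ Pi.single i 1) ⊆ {k} := by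
      rcases (sp ((D : Matrix (Fin 4) (Fin 4) F) *ᵥ Pi.single i 1)).eq_empty_or_nonempty with h | ⟨k, hk⟩
      · exact ⟨i, by rw [h]; exact empty_subset _⟩
      · exact ⟨k, fun m hm => Finset.mem_singleton.2 (card_le_one.1 (hD i) m hm k hk)⟩
    refine ⟨k, funext fun m => ?_⟩
    rcases eq_or_ne m k with rfl | hm
    · simp
    · simp [notMem_sp.1 fun h => hm (Finset.mem_singleton.1 (hk h)), hm]
  choose π hπ using hshape
  set d := fun i => ((D : Matrix (Fin 4) (Fin 4) F) *ᵥ Pi.single i 1) (π i)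
  have hπ' : ∀ i, (D : Matrix (Fin 4) (Fin 4) F) *ᵥ Pi.single i 1 = d i • Pi.single (π i) 1 := hπ
  have hd0 : ∀ i, d i ≠ 0 := fun i h => by
    have := hπ' i
    rw [h, zero_smul] at this
    have := congrArg (fun v => ((D⁻¹ : GL (Fin 4) F) : Matrix (Fin 4) (Fin 4) F) *ᵥ v) this
    simp only [inv_mulVec_mulVec, mulVec_zero] at this
    simpa using congrFun this i
  have hinj : Function.Injective π := by
    intro i j hij
    by_contra hne
    have h1 : (D : Matrix (Fin 4) (Fin 4) F) *ᵥ (d j • Pi.single i 1 - d i • Pi.single j 1) = 0 := by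
      rw [mulVec_sub, mulVec_smul, mulVec_smul, hπ', hπ', hij, smul_smul, smul_smul, mul_comm, sub_self]
    have h2 := congrArg (fun v => ((D⁻¹ : GL (Fin 4) F) : Matrix (Fin 4) (Fin 4) F) *ᵥ v) h1
    simp only [inv_mulVec_mulVec, mulVec_zero] at h2
    have h3 := congrFun h2 i
    simp [Ne.symm hne] at h3
    exact hd0 j (by simpa [hne] using h3)
  intro i j
  by_cases h2 : ∃ m, π (π m) = m
  · obtain ⟨m, hm⟩ := h2
    have hDD : ∀ a, ((D * D : GL (Fin 4) F) : Matrix (Fin 4) (Fin 4) F) *ᵥ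
        ((g : Matrix (Fin 4) (Fin 4) F) *ᵥ Pi.single a 1) =
        c a ^ 2 • ((g : Matrix (Fin 4) (Fin 4) F) *ᵥ Pi.single a 1) := fun a => by
      rw [mul_mulVec, hdiag, mulVec_smul, hdiag, smul_smul, sq]
    have := hfix (D * D) (fun a => c a ^ 2) hDD m (d m * d (π m)) (by
      rw [mul_mulVec, hπ', mulVec_smul, hπ', hm, smul_smul])
    exact (this i).trans (this j).symm
  push Not at h2
  exfalso
  have horb : ∀ π : Fin 4 → Fin 4, (∀ x y, π x = π y → x = y) → (∀ m, π (π m) ≠ m) →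
      ∀ x, x = 0 ∨ x = π 0 ∨ x = π (π 0) ∨ x = π (π (π 0)) := by decide +kernel
  -- two eigenvectors with the same value are proportional
  set A := (g : Matrix (Fin 4) (Fin 4) F) *ᵥ Pi.single a 1
  set B := (g : Matrix (Fin 4) (Fin 4) F) *ᵥ Pi.single b 1
  set z := B 0 • A - A 0 • B with hz
  have hzD : (D : Matrix (Fin 4) (Fin 4) F) *ᵥ z = c a • z := by
    rw [hz, mulVec_sub, mulVec_smul, mulVec_smul, hdiag, hdiag, hc]; module
  have hstep : ∀ m, z m = 0 → z (π m) = 0 := by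
    intro m hm
    have h1 : ((D : Matrix (Fin 4) (Fin 4) F) *ᵥ z) (π m) = z m * d m := by
      conv_lhs => rw [pi_eq_sum_univ' z]
      rw [mulVec_sum, Finset.sum_apply, sum_eq_single m]
      · rw [mulVec_smul, hπ', Pi.smul_apply, Pi.smul_apply, Pi.single_eq_same]
        simp
      · intro k _ hk
        rw [mulVec_smul, hπ', Pi.smul_apply, Pi.smul_apply,
          Pi.single_eq_of_ne fun h => hk (hinj h).symm]
        simp
      · simp
    rw [hzD, hm, zero_mul, Pi.smul_apply, smul_eq_mul, mul_eq_zero] at h1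
    refine h1.resolve_left fun h0 => ?_
    have := congrArg (fun v => ((D⁻¹ : GL (Fin 4) F) : Matrix (Fin 4) (Fin 4) F) *ᵥ v) (hdiag a)
    simp only [inv_mulVec_mulVec, h0, zero_smul, mulVec_zero] at this
    exact hg a 0 (congrFun this 0)
  have z0 : z 0 = 0 := by simp [z, mul_comm]
  have hz0 : z = 0 := funext fun m => by
    rcases horb π (fun x y h => hinj h) h2 m with h | h | h | h <;> rw [h]
    · exact z0
    · exact hstep _ z0
    · exact hstep _ (hstep _ z0)
    · exact hstep _ (hstep _ (hstep _ z0))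
  have h3 := congrArg (fun v => (((g⁻¹ : GL (Fin 4) F) : Matrix (Fin 4) (Fin 4) F) *ᵥ v) a) hz0
  simp only [hz, A, B, mulVec_sub, mulVec_smul, inv_mulVec_mulVec, mulVec_zero, Pi.sub_apply,
    Pi.smul_apply, Pi.single_eq_same, Pi.single_eq_of_ne hab, Pi.zero_apply, smul_eq_mul, mul_one,
    mul_zero, sub_zero] at h3
  exact hg b 0 h3

/-- The quotient of two weights. -/
def ratio (p r p2 r2 : Fin 2 → F) (x : Fin 2 × Fin 2) : F := if x.2 = 0 then p2 x.1 / p x.1 else r2 x.1 / r x.1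

variable [Fintype F]

/-- An overgroup of the monomial group has a non-monomial element with a zero entry. -/
theorem exists_zero (hf : Geo.IsUnitaryForm σ (hermForm 4 F q)) (hF : Fintype.card F = q ^ 2)
    (hσ : ∀ x, σ x = x ^ q) (hq : 4 ≤ q)
    {M : Subgroup (GL (Fin 4) F)} (hM : M ≤ isoGrp (hermForm 4 F q))
    (hmon : HasMon (hermForm 4 F q) M) {g : GL (Fin 4) F} (hg : g ∈ M) (hg' : ¬ Mon g) :
    ∃ y ∈ M, ¬ Mon y ∧ ∃ j z, ((y : Matrix (Fin 4) (Fin 4) F) *ᵥ Pi.single j 1) z = 0 := by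
  classical
  have hgi : ¬ Mon g⁻¹ := fun h => hg' (mon_inv hf hσ (hM hg) h)
  by_contra hcon
  push Not at hcon
  set k : Fin 4 := 0
  set X := ((g⁻¹ : GL (Fin 4) F) : Matrix (Fin 4) (Fin 4) F) *ᵥ Pi.single k 1
  have hX : ∀ i, X i ≠ 0 := hcon g⁻¹ (M.inv_mem hg) hgi k
  set e : Fin 2 × Fin 2 ≃ Fin 4 := finProdFinEquiv
  set u := fun b => crossTerm σ e X b with hu
  have hu0 : ∀ b, u b ≠ 0 := fun b => mul_ne_zero (hX _) ((_root_.map_ne_zero σ).2 (hX _))
  have hinv : ∀ x, σ (σ x) = x := u_inv hf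
  have hsu : ∀ b, σ (u b) ≠ 0 := fun b => (_root_.map_ne_zero σ).2 (hu0 b)
  -- two solutions whose quotient has a repeated value and a non-scalar square
  obtain ⟨p, r, p2, r2, hp, hr, hp2, hr2, hval, hval2, hdet, hdet2, hbad⟩ :
      ∃ p r p2 r2 : Fin 2 → F, (∀ b, p b * σ (p b) = 1) ∧ (∀ b, r b * σ (r b) = 1) ∧
        (∀ b, p2 b * σ (p2 b) = 1) ∧ (∀ b, r2 b * σ (r2 b) = 1) ∧
        (∑ b, u b * (p b + r b) = 0) ∧ (∑ b, u b * (p2 b + r2 b) = 0) ∧
        (∏ b, -(p b * r b * (u b / σ (u b))) = 1) ∧ (∏ b, -(p2 b * r2 b * (u b / σ (u b))) = 1) ∧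
        ∃ a a' i j : Fin 2 × Fin 2, a ≠ a' ∧ ratio p r p2 r2 a = ratio p r p2 r2 a' ∧
          ratio p r p2 r2 i ^ 2 ≠ ratio p r p2 r2 j ^ 2 := by
    by_cases hs : IsSquare (u 0 * u 1)
    · obtain ⟨α, hα⟩ := hs
      have hα0 : α ≠ 0 := fun h => mul_ne_zero (hu0 0) (hu0 1) (by rw [hα, h, mul_zero])
      have hσα : σ α ≠ 0 := (_root_.map_ne_zero σ).2 hα0
      set w := σ α / α
      have hw : w * σ w = 1 := by simp only [w, map_div₀, hinv]; field_simp
      have hwu : w * w * (u 0 / σ (u 0)) * (u 1 / σ (u 1)) = 1 := by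
        have h2 := congrArg σ hα
        simp only [map_mul] at h2
        have := hsu 0
        have := hsu 1
        simp only [w]
        field_simp
        linear_combination (σ α * σ α) * hα - (α * α) * h2
      obtain ⟨l, hl, hl4⟩ : ∃ l : F, l * σ l = 1 ∧ l ^ 4 ≠ 1 := by
        by_contra h
        push Not at h
        have : #(cs σ) ≤ 4 := (card_le_card (t := (Polynomial.nthRoots 4 (1 : F)).toFinset) fun l hl => by
          rw [Multiset.mem_toFinset, Polynomial.mem_nthRoots (by norm_num)]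
          exact h l (mem_cs.1 hl)).trans ((Multiset.toFinset_card_le _).trans (Polynomial.card_nthRoots 4 1))
        rw [card_cs hF hσ] at this
        omega
      have hli : l⁻¹ * σ l⁻¹ = 1 := by rw [map_inv₀, ← mul_inv, hl, inv_one]
      have hl0 := ne_zero_of_norm hl
      have hw0 := ne_zero_of_norm hw
      refine ⟨![1, w], ![-1, -w], ![l, w * l⁻¹], ![-l, -(w * l⁻¹)], ?_, ?_, ?_, ?_, ?_, ?_, ?_, ?_,
        (0, 0), (0, 1), (0, 0), (1, 0), by decide, ?_, ?_⟩
      · intro b; fin_cases b <;> simp [hw]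
      · intro b; fin_cases b <;> simp [hw]
      · intro b; fin_cases b
        · simp [hl]
        · show w * l⁻¹ * σ (w * l⁻¹) = 1
          rw [map_mul, mul_mul_mul_comm, hw, hli, one_mul]
      · intro b; fin_cases b
        · simp [hl]
        · show -(w * l⁻¹) * σ (-(w * l⁻¹)) = 1
          rw [map_neg, neg_mul_neg, map_mul, mul_mul_mul_comm, hw, hli, one_mul]
      · simp [Fin.sum_univ_two]
      · simp [Fin.sum_univ_two]
      · simp [Fin.prod_univ_two]; linear_combination hwu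
      · simp [Fin.prod_univ_two]; field_simp; field_simp at hwu; linear_combination hwu
      · simp [ratio]
      · intro h
        simp [ratio] at h
        apply hl4
        field_simp at h
        linear_combination h
    · have h2 : (2 : F) ≠ 0 := fun h2 => hs (isSquare_of_two h2 _)
      obtain ⟨P, R, P', R', hP, hR, hP', hR', hz, hd, hd', hne, hne', hdiff⟩ :=
        exists_cancel_nonsquare h2 hinv (exists_skew_ne_zero hf) (hu0 0) (hu0 1) hs
      have sqne : ∀ {P R : F}, P ≠ 0 → P ≠ R → P + R ≠ 0 → (R / P) ^ 2 ≠ 1 := by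
        intro P R hP h1 h2' h
        field_simp at h
        rcases mul_eq_zero.1 (show (P - R) * (P + R) = 0 by linear_combination -h) with h | h
        exacts [h1 (sub_eq_zero.1 h), h2' h]
      have hd1 : -(P * R * (u 0 / σ (u 0))) * -(P' * R' * (u 1 / σ (u 1))) = 1 := by
        rw [hd, hd']; ring
      rcases hdiff with h | h
      · refine ⟨![P, P'], ![R, R'], ![R, P'], ![P, R'], ?_, ?_, ?_, ?_, ?_, ?_, ?_, ?_,
          (1, 0), (1, 1), (0, 0), (1, 0), by decide, ?_, ?_⟩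
        any_goals intro b; fin_cases b <;> simp [hP, hR, hP', hR']
        · simp [Fin.sum_univ_two]; linear_combination hz
        · simp [Fin.sum_univ_two]; linear_combination hz
        · simpa [Fin.prod_univ_two] using hd1
        · simp [Fin.prod_univ_two]; linear_combination hd1
        · simp [ratio, ne_zero_of_norm hP', ne_zero_of_norm hR']
        · simpa [ratio, ne_zero_of_norm hP'] using sqne (ne_zero_of_norm hP) h hne
      · refine ⟨![P, P'], ![R, R'], ![P, R'], ![R, P'], ?_, ?_, ?_, ?_, ?_, ?_, ?_, ?_,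
          (0, 0), (0, 1), (1, 0), (0, 0), by decide, ?_, ?_⟩
        any_goals intro b; fin_cases b <;> simp [hP, hR, hP', hR']
        · simp [Fin.sum_univ_two]; linear_combination hz
        · simp [Fin.sum_univ_two]; linear_combination hz
        · simpa [Fin.prod_univ_two] using hd1
        · simp [Fin.prod_univ_two]; linear_combination hd1
        · simp [ratio, ne_zero_of_norm hP, ne_zero_of_norm hR]
        · simpa [ratio, ne_zero_of_norm hP] using sqne (ne_zero_of_norm hP') h hne'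
  obtain ⟨a, a', i, j, haa, heq, hsq⟩ := hbad
  obtain ⟨s1, hs1, hm1, ha1, hv1⟩ := exists_swaps hf hσ e hX hp hr hdet
  obtain ⟨s2, hs2, hm2, ha2, hv2⟩ := exists_swaps hf hσ e hX hp2 hr2
    hdet2
  have hy : ∀ s : GL (Fin 4) F, s ∈ M →
      hermForm 4 F q ((s : Matrix (Fin 4) (Fin 4) F) *ᵥ X) X = 0 → Mon (g * s * g⁻¹) := by
    intro s hs h0
    by_contra hno
    refine hcon _ (M.mul_mem (M.mul_mem hg hs) (M.inv_mem hg)) hno k k ?_
    rw [mul_mulVec, mul_mulVec, ← herm_single_right' hσ (_ *ᵥ _) k,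
      ← mem_isoGrp.1 (Subgroup.inv_mem _ (hM hg)), inv_mulVec_mulVec]
    exact h0
  have h1 := hy s1 (hmon s1 hs1 hm1) (hv1.trans hval)
  have h2 := hy s2 (hmon s2 hs2 hm2) (hv2.trans hval2)
  have h1' : Mon (g * s1 * g⁻¹)⁻¹ := mon_inv hf hσ
    (Subgroup.inv_mem _ (hM (M.mul_mem (M.mul_mem hg (hmon s1 hs1 hm1)) (M.inv_mem hg))))
    (by rwa [inv_inv])
  set D := g * (s2 * s1⁻¹) * g⁻¹ with hDdef
  have hD : Mon D := by
    rw [show D = g * s2 * g⁻¹ * (g * s1 * g⁻¹)⁻¹ by rw [hDdef]; group]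
    exact mon_mul h2 h1'
  set c1 := swc σ e X p r with hc1def
  set c2 := swc σ e X p2 r2 with hc2def
  have hc1 : ∀ i, c1 i ≠ 0 := fun i h => by
    have e1 := congrFun (mulVec_inv_mulVec s1 (Pi.single i (1 : F))) i
    simp only [ha1] at e1
    rw [h, zero_mul, Pi.single_eq_same] at e1
    exact zero_ne_one e1
  have ht : ∀ x i, ((((s2 * s1⁻¹ : GL (Fin 4) F)) : Matrix (Fin 4) (Fin 4) F) *ᵥ x) i =
      c2 i / c1 i * x i := by
    intro x i
    rw [mul_mulVec, ha2]
    conv_rhs => rw [← mulVec_inv_mulVec s1 x, ha1]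
    rw [← mul_assoc, div_mul_cancel₀ _ (hc1 i)]
  have hcol : ∀ m, (D : Matrix (Fin 4) (Fin 4) F) *ᵥ ((g : Matrix (Fin 4) (Fin 4) F) *ᵥ Pi.single m 1) =
      (c2 m / c1 m) • ((g : Matrix (Fin 4) (Fin 4) F) *ᵥ Pi.single m 1) := fun m => by
    rw [hDdef, mul_mulVec, mul_mulVec, inv_mulVec_mulVec, ← mulVec_smul]
    congr 1
    funext i
    rw [ht]
    rcases eq_or_ne i m with rfl | hi <;> simp [*]
  have hval' : ∀ x, c2 (e x) / c1 (e x) = ratio p r p2 r2 x := by
    rintro ⟨b, x⟩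
    simp only [c1, c2, swc, ratio, Equiv.symm_apply_apply]
    split_ifs
    · rfl
    · rw [mul_div_mul_right]
      exact div_ne_zero (hu0 b) (hsu b)
  refine hsq ?_
  rw [← hval', ← hval']
  exact sq_scalar_of_mon (hcon g hg hg') (fun a i => hcon g⁻¹ (M.inv_mem hg) hgi i a) hD hcol
    (fun h => haa (e.injective h)) (by rw [hval', hval']; exact heq) (e i) (e j)

end Cfsg.Agent.H12.SUFour.Frames
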